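import Cfsg.Agent.H123.Cls.FiOre

/-!
# S5745 (helper956): the numbers of elements of prime order of `Fi₂₂`

`card_pow_le` : at most `N_r` elements `g` of `Fi₂₂` with `g ^ r = 1`: the classes of the other elements are too large.
-/

set_option autoImplicit false
set_option maxRecDepth 1000000
set_option exponentiation.threshold 5000

namespace Cfsg.Agent.H956.EPX.FiN

open Equiv Cfsg Cfsg.Spor Cfsg.Agent.H123.Cls Cfsg.Agent.Lib.BitNet Cfsg.Agent.H123.Cls.FiDat
open Cfsg.Agent.H494.F22 (A N A_conj card_A card_N N_le_A A_le_Aut rho rho_of rho_injective)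
open Cfsg.Agent.H494.F22.Row (row)

section

variable {n : ℕ}

/-- disjoint classes inside a set -/
theorem sum_le {A : Subgroup (Perm (Fin n))} (S : Set (Perm (Fin n))) {ι : Type} [Fintype ι]
    (r : ι → Perm (Fin n)) (c : ι → ℕ)
    (hc : ∀ i, Nat.card ↥(A ⊓ Subgroup.centralizer {r i}) ≤ c i)
    (hne : ∀ i j, i ≠ j → ∀ a ∈ A, a * r i * a⁻¹ ≠ r j)
    (hS : ∀ i, ∀ a ∈ A, a * r i * a⁻¹ ∈ S) : ∑ i, Nat.card A / c i ≤ S.ncard := by
  classical
  -- the classes
  let cl : ι → Set (Perm (Fin n)) := fun i => {x | ∃ a ∈ A, x = a * r i * a⁻¹}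
  have hcl : ∀ i, Nat.card A / c i ≤ (cl i).ncard := by
    intro i
    -- orbit-stabilizer
    have h1 : Nat.card A = Nat.card ↥(A ⊓ Subgroup.centralizer {r i}) * (cl i).ncard := by
      let C : Subgroup A := (A ⊓ Subgroup.centralizer {r i}).subgroupOf A
      have e1 : Nat.card C = Nat.card ↥(A ⊓ Subgroup.centralizer {r i}) :=
        Nat.card_congr (Subgroup.subgroupOfEquivOfLe inf_le_left).toEquiv
      have e2 : Nat.card (A ⧸ C) = (cl i).ncard := by
        rw [← Nat.card_coe_set_eq]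
        refine Nat.card_congr (Equiv.ofBijective (fun q : A ⧸ C => Quotient.liftOn' q
          (fun a => (⟨(a : Perm (Fin n)) * r i * (a : Perm (Fin n))⁻¹, a, a.2, rfl⟩ : cl i)) ?_) ⟨?_, ?_⟩)
        · intro a b hab
          rw [QuotientGroup.leftRel_apply] at hab
          have h2 := (Subgroup.mem_inf.1 (Subgroup.mem_subgroupOf.1 hab)).2
          rw [Subgroup.mem_centralizer_singleton_iff] at h2
          apply Subtype.ext
          change ((a : Perm (Fin n))⁻¹ * b) * r i = r i * ((a : Perm (Fin n))⁻¹ * b) at h2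
          change (a : Perm (Fin n)) * r i * (a : Perm (Fin n))⁻¹ = b * r i * (b : Perm (Fin n))⁻¹
          calc (a : Perm (Fin n)) * r i * (a : Perm (Fin n))⁻¹ =
              a * (r i * ((a : Perm (Fin n))⁻¹ * b)) * (b : Perm (Fin n))⁻¹ := by group
            _ = a * ((a : Perm (Fin n))⁻¹ * b * r i) * (b : Perm (Fin n))⁻¹ := by rw [h2]
            _ = b * r i * (b : Perm (Fin n))⁻¹ := by group
        · intro q q' h
          induction q using Quotient.inductionOn' with
          | h a =>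
            induction q' using Quotient.inductionOn' with
            | h b =>
              have h2 : (a : Perm (Fin n)) * r i * (a : Perm (Fin n))⁻¹ = b * r i * (b : Perm (Fin n))⁻¹ :=
                congrArg Subtype.val h
              refine Quotient.sound' ?_
              rw [QuotientGroup.leftRel_apply]
              refine Subgroup.mem_subgroupOf.2 (Subgroup.mem_inf.2 ⟨(a⁻¹ * b).2, ?_⟩)
              rw [Subgroup.mem_centralizer_singleton_iff]
              change ((a : Perm (Fin n))⁻¹ * b) * r i = r i * ((a : Perm (Fin n))⁻¹ * b)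
              calc ((a : Perm (Fin n))⁻¹ * b) * r i =
                  (a : Perm (Fin n))⁻¹ * (b * r i * (b : Perm (Fin n))⁻¹) * b := by group
                _ = (a : Perm (Fin n))⁻¹ * (a * r i * (a : Perm (Fin n))⁻¹) * b := by rw [h2]
                _ = r i * ((a : Perm (Fin n))⁻¹ * b) := by group
        · rintro ⟨x, a, ha, rfl⟩
          exact ⟨Quotient.mk'' ⟨a, ha⟩, rfl⟩
      rw [← e1, ← e2, mul_comm]
      exact Subgroup.card_eq_card_quotient_mul_card_subgroup C
    have h0 : 0 < Nat.card ↥(A ⊓ Subgroup.centralizer {r i}) := Nat.card_pos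
    calc Nat.card A / c i ≤ Nat.card A / Nat.card ↥(A ⊓ Subgroup.centralizer {r i}) := Nat.div_le_div_left (hc i) h0
      _ = (cl i).ncard := by
        rw [h1, Nat.mul_div_cancel_left _ h0]
  have hdis : Set.PairwiseDisjoint (Set.univ : Set ι) cl := by
    intro i _ j _ hij
    rw [Function.onFun, Set.disjoint_left]
    rintro x ⟨a, ha, rfl⟩ ⟨b, hb, h⟩
    refine hne i j hij (b⁻¹ * a) (A.mul_mem (A.inv_mem hb) ha) ?_
    calc b⁻¹ * a * r i * (b⁻¹ * a)⁻¹ = b⁻¹ * (a * r i * a⁻¹) * b := by group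
      _ = r j := by rw [h]; group
  have hun : (⋃ i, cl i) ⊆ S := by
    intro x hx
    obtain ⟨i, a, ha, rfl⟩ := Set.mem_iUnion.1 hx
    exact hS i a ha
  have hcard : (⋃ i, cl i).ncard = ∑ i, (cl i).ncard := by
    have h := Set.ncard_iUnion_of_finite (s := cl) (fun i => Set.toFinite _)
      (fun i j hij => hdis (Set.mem_univ i) (Set.mem_univ j) hij)
    rw [h, finsum_eq_sum_of_fintype]
  calc ∑ i, Nat.card A / c i ≤ ∑ i, (cl i).ncard := Finset.sum_le_sum fun i _ => hcl i
    _ = (⋃ i, cl i).ncard := hcard.symm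
    _ ≤ S.ncard := Set.ncard_le_ncard hun (Set.toFinite _)

/-- the number of elements of `N` with `g ^ e = 1` -/
theorem pow_le {K w : ℕ} {row : ℕ → ℕ} {A N : Subgroup (Perm (Fin n))} (hn : n ≤ 2 ^ K) (hA : A ≤ Aut n row)
    (hnA : ∀ a ∈ A, ∀ x ∈ N, a * x * a⁻¹ ∈ N) {a : ℕ} (haA : a ≤ Nat.card A) (D : List (ℕ × ℕ × List ℕ))
    (hr : ∀ x ∈ D, ∃ g ∈ N, ∀ p : Fin n, (g p : ℕ) = lk w x.1 p)
    (hc : ∀ x ∈ D, ∃ l L, chkB n K row w x.1 l L x.2.1 = true)
    (keys : List (List (Bool × ℕ))) (hs : ∀ x ∈ D, chkKey n K row w x.1 keys x.2.2 = true)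
    (hl : ∀ x ∈ D, x.2.2.length = keys.length) (hnd : (D.map fun x => x.2.2).Nodup) {e : ℕ}
    (he : ∀ x ∈ D, ∃ p < n, it w x.1 e p ≠ p) :
    (D.map fun x => a / (x.2.1 + 1)).sum + {g : Perm (Fin n) | g ∈ N ∧ g ^ e = 1}.ncard ≤ Nat.card N := by
  have hmem : ∀ i : Fin D.length, D[i.1] ∈ D := fun i => List.getElem_mem i.2
  have hinj : Function.Injective (fun i : Fin D.length => (D[i.1]).2.2) := by
    intro i j hij
    have h1 := (List.nodup_iff_injective_get.1 hnd)
    have h2 : (⟨i.1, by rw [List.length_map]; exact i.2⟩ : Fin (D.map fun x => x.2.2).length) =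
        ⟨j.1, by rw [List.length_map]; exact j.2⟩ := by
      apply h1
      simpa using hij
    have h3 := congrArg Fin.val h2
    exact Fin.ext h3
  choose r hrN hrp using fun i : Fin D.length => hr _ (hmem i)
  have h1 : ∑ i : Fin D.length, Nat.card A / ((D[i.1]).2.1 + 1) ≤ {g : Perm (Fin n) | g ∈ N ∧ g ^ e ≠ 1}.ncard := by
    refine sum_le _ r (fun i => (D[i.1]).2.1 + 1) (fun i => by
      obtain ⟨l, L, h1⟩ := hc _ (hmem i)
      refine card_le_bound hn (hrp i) h1 (inf_le_left.trans hA) fun σ hσ p => ?_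
      have h2 := Subgroup.mem_centralizer_singleton_iff.1 (Subgroup.mem_inf.1 hσ).2
      exact congrArg (fun τ : Perm (Fin n) => τ p) h2) (fun i j hij b hb h1 => by
        apply hij
        apply hinj
        show (D[i.1]).2.2 = (D[j.1]).2.2
        rw [← key_of_chk hn (hrp i) (hs _ (hmem i)) (hl _ (hmem i)),
          ← key_of_chk hn (hrp j) (hs _ (hmem j)) (hl _ (hmem j))]
        refine List.map_congr_left fun k _ => ?_
        rw [← h1, pj_conj (hA hb)]) fun i b hb => ⟨hnA b hb _ (hrN i), fun h => ?_⟩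
    obtain ⟨p, hp, hpe⟩ := he _ (hmem i)
    apply hpe
    have h2 : r i ^ e = 1 := by
      have h3 : b * r i ^ e * b⁻¹ = 1 := by rw [← conj_pow, h]
      calc r i ^ e = b⁻¹ * (b * r i ^ e * b⁻¹) * b := by group
        _ = 1 := by rw [h3]; group
    have h4 := it_eq (hrp i) e ⟨p, hp⟩
    rw [h2] at h4
    exact h4
  have h2 : (D.map fun x => a / (x.2.1 + 1)).sum ≤ {g : Perm (Fin n) | g ∈ N ∧ g ^ e ≠ 1}.ncard := by
    refine le_trans ?_ h1
    refine le_trans ?_ (Finset.sum_le_sum fun i _ => Nat.div_le_div_right haA)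
    rw [Fin.sum_univ_fun_getElem D (fun x => a / (x.2.1 + 1))]
  have h3 : {g : Perm (Fin n) | g ∈ N ∧ g ^ e ≠ 1}.ncard + {g : Perm (Fin n) | g ∈ N ∧ g ^ e = 1}.ncard ≤
      Nat.card N := by
    rw [← Set.ncard_union_eq (by
      rw [Set.disjoint_left]
      rintro g ⟨-, h⟩ ⟨-, h'⟩
      exact h h') (Set.toFinite _) (Set.toFinite _)]
    have h4 : (N : Set (Perm (Fin n))).ncard = Nat.card N := rfl
    rw [← h4]
    refine Set.ncard_le_ncard ?_ (Set.toFinite _)
    rintro g (⟨h, -⟩ | ⟨h, -⟩) <;> exact h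
  omega

end

/-- some point of the first eight is moved by the `e`-th power -/
noncomputable def mv (e : ℕ) (x : ℕ × ℕ × List ℕ) : Bool :=
  (List.range 8).any fun p => !(Nat.beq (it 12 x.1 e p) p)

theorem mv_spec {e : ℕ} {x : ℕ × ℕ × List ℕ} (h : mv e x = true) : ∃ p < 3510, it 12 x.1 e p ≠ p := by
  unfold mv at h
  rw [List.any_eq_true] at h
  obtain ⟨p, hp, h⟩ := h
  rw [List.mem_range] at hp
  refine ⟨p, by omega, fun h2 => ?_⟩
  rw [h2] at h
  simp at h

/-- the total of the other classes -/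
noncomputable def tot (e : ℕ) : ℕ := ((D.filter (mv e)).map fun x => (2 * 64561751654400) / (x.2.1 + 1)).sum

theorem tot_add_le (e : ℕ) : tot e + {g : Perm (Fin 3510) | g ∈ N ∧ g ^ e = 1}.ncard ≤ 64561751654400 := by
  rw [← card_N]
  have hsub : ∀ x ∈ D.filter (mv e), x ∈ D := fun x hx => (List.mem_filter.1 hx).1
  exact pow_le (by norm_num) A_le_Aut (fun _ ha _ hx => A_conj ha hx) card_A (D.filter (mv e))
    (fun x hx => D_mem x (hsub x hx)) (fun x hx => D_bd x (hsub x hx)) keys (fun x hx => D_sg x (hsub x hx))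
    (fun x hx => D_len x (hsub x hx)) (D_nodup.sublist (List.filter_sublist.map _))
    fun x hx => mv_spec (List.mem_filter.1 hx).2

theorem t2 : Nat.ble (64561751654400 - 37706175 - 1) (tot 2) = true := by
  unfold tot D
  decide +kernel
theorem t3 : Nat.ble (64561751654400 - 4180267520 - 1) (tot 3) = true := by
  unfold tot D
  decide +kernel
theorem t5 : Nat.ble (64561751654400 - 107602919424 - 1) (tot 5) = true := by
  unfold tot D
  decide +kernel
theorem t7 : Nat.ble (64561751654400 - 1537184563200 - 1) (tot 7) = true := by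
  unfold tot D
  decide +kernel
theorem t11 : Nat.ble (64561751654400 - 5869250150400 - 1) (tot 11) = true := by
  unfold tot D
  decide +kernel
theorem t13 : Nat.ble (64561751654400 - 9932577177600 - 1) (tot 13) = true := by
  unfold tot D
  decide +kernel

/-- the numbers -/
def nr : ℕ → ℕ
  | 2 => 37706175
  | 3 => 4180267520
  | 5 => 107602919424
  | 7 => 1537184563200
  | 11 => 5869250150400
  | 13 => 9932577177600
  | _ => 0

/-- **the numbers of elements of prime order of `Fi₂₂`** -/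
theorem card_le {r : ℕ} (hr : r ∈ [2, 3, 5, 7, 11, 13]) {X : Type*} [Group X] (e : X ≃* Spor.Fi22) :
    {g : X | orderOf g = r}.ncard ≤ nr r := by
  have h1 : ∀ r, {g : Perm (Fin 3510) | g ∈ N ∧ g ^ r = 1}.ncard + tot r ≤ 64561751654400 := fun r => by
    rw [add_comm]; exact tot_add_le r
  have h2 : 64561751654400 - nr r - 1 ≤ tot r ∧ nr r < 64561751654400 ∧ 1 < r := by
    simp only [List.mem_cons, List.not_mem_nil, or_false] at hr
    rcases hr with rfl | rfl | rfl | rfl | rfl | rfl
    · exact ⟨Nat.le_of_ble_eq_true t2, by decide, by norm_num⟩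
    · exact ⟨Nat.le_of_ble_eq_true t3, by decide, by norm_num⟩
    · exact ⟨Nat.le_of_ble_eq_true t5, by decide, by norm_num⟩
    · exact ⟨Nat.le_of_ble_eq_true t7, by decide, by norm_num⟩
    · exact ⟨Nat.le_of_ble_eq_true t11, by decide, by norm_num⟩
    · exact ⟨Nat.le_of_ble_eq_true t13, by decide, by norm_num⟩
  have h3 := h1 r
  have h4 : {g : X | orderOf g = r}.ncard + 1 ≤ {g : Perm (Fin 3510) | g ∈ N ∧ g ^ r = 1}.ncard := by
    let f : X →* Perm (Fin 3510) := rho.comp e.toMonoidHom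
    have hf : Function.Injective f := rho_injective.comp e.injective
    have h5 : ((f '' {g : X | orderOf g = r}) ∪ {1}).ncard = {g : X | orderOf g = r}.ncard + 1 := by
      have : Finite X := Finite.of_injective f hf
      rw [Set.ncard_union_eq, Set.ncard_image_of_injective _ hf, Set.ncard_singleton]
      · rw [Set.disjoint_singleton_right]
        rintro ⟨g, hg, hg1⟩
        have h6 : g = 1 := hf (by rw [hg1, map_one])
        rw [h6, Set.mem_ofPred_eq, orderOf_one] at hg
        omega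
    rw [← h5]
    refine Set.ncard_le_ncard ?_ (Set.toFinite _)
    rintro g (⟨x, hx, rfl⟩ | hg)
    · refine ⟨⟨e x, rfl⟩, ?_⟩
      rw [← map_pow, ← hx, pow_orderOf_eq_one, map_one]
    · rw [Set.mem_singleton_iff] at hg
      rw [hg]
      exact ⟨N.one_mem, one_pow _⟩
  omega

end Cfsg.Agent.H956.EPX.FiN
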