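import Cfsg.Agent.H956.EPX.Row
import Cfsg.Agent.H956.EPX.FiN
import Cfsg.Agent.NotCT.Orders

/-!
# S5745, the row `(E6(4), Fi22)` (helper956)

`fi22_row` : from class bounds `c` for the primes `3, 5, 7, 11, 13` with the numbers of elements of `Fi22`.
-/

set_option autoImplicit false

namespace Cfsg.Agent.H956.EPX

open Subgroup Cfsg Cfsg.Agent.H284 Cfsg.Agent.H209.EPX

/-- `Fi22`, any class bounds -/
theorem fi22_row {G : Type} [Group G] [Finite G] {H N : Subgroup G} {T : Type} [Group T] {e : N ≃* (Fin 1 → T)}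
    (h : EPS H N e) (hT : Spor.IsoFi22 T)
    (hM : ∀ g ∉ H, ∃ r ∈ (Nat.card H).primeFactors.erase 2, r ∣ Nat.card (H ⊓ cj g H : Subgroup G)) (c : ℕ → ℕ)
    (hc : ∀ r ∈ ({3, 5, 7, 11, 13} : Finset ℕ), ∀ x : G, orderOf x = r → c r ≤ Cfsg.Agent.H742.EX.cG x)
    (hc0 : ∀ r ∈ ({3, 5, 7, 11, 13} : Finset ℕ), 0 < c r) (h6 : 6 * 64561751654400 ≤ c 3)
    (hS : ∑ r ∈ ({3, 5, 7, 11, 13} : Finset ℕ), ((FiN.nr r : ℚ) ^ 2 / (((r : ℚ) - 1) * c r)) ≤ 1 / 2) : False := by
  have hs : IsSporadicGroup T := by unfold IsSporadicGroup; tauto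
  have hn : Nat.card T = 64561751654400 := Cfsg.Agent.NotCT.Orders.fi22 hT
  have hfin : Finite T := Nat.finite_of_card_ne_zero (by rw [hn]; norm_num)
  have hp : ∀ r ∈ ({3, 5, 7, 11, 13} : Finset ℕ), r.Prime ∧ r ≠ 2 := by
    intro r hr
    simp only [Finset.mem_insert, Finset.mem_singleton] at hr
    rcases hr with rfl | rfl | rfl | rfl | rfl <;> norm_num
  refine spor_row h hs hM hn {3, 5, 7, 11, 13} hp (a := 17) (b := 9) ?_ FiN.nr c ?_ hc hc0
    (s := 3) (by simp) (by norm_num) h6 hS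
  · decide +kernel
  · intro r hr
    obtain ⟨e'⟩ := hT
    refine FiN.card_le ?_ e'
    simp only [Finset.mem_insert, Finset.mem_singleton] at hr
    rcases hr with rfl | rfl | rfl | rfl | rfl <;> simp

/-- the bounds for `E6(4)` -/
def cFi (r : ℕ) : ℕ :=
  if r = 3 then 2 ^ 66 else if r = 5 then 2 ^ 74 else if r = 7 then 2 ^ 82 else if r = 11 then 2 ^ 86 else 2 ^ 87

/-- the row with the bounds `cFi` -/
theorem fi22_row' {G : Type} [Group G] [Finite G] {H N : Subgroup G} {T : Type} [Group T] {e : N ≃* (Fin 1 → T)}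
    (h : EPS H N e) (hT : Spor.IsoFi22 T)
    (hM : ∀ g ∉ H, ∃ r ∈ (Nat.card H).primeFactors.erase 2, r ∣ Nat.card (H ⊓ cj g H : Subgroup G))
    (hc : ∀ r ∈ ({3, 5, 7, 11, 13} : Finset ℕ), ∀ x : G, orderOf x = r → cFi r ≤ Cfsg.Agent.H742.EX.cG x) : False := by
  refine fi22_row h hT hM cFi hc ?_ (by norm_num [cFi]) ?_
  · intro r _
    rw [cFi]
    split_ifs <;> positivity
  · rw [Finset.sum_insert (by decide), Finset.sum_insert (by decide), Finset.sum_insert (by decide),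
      Finset.sum_insert (by decide), Finset.sum_singleton]
    norm_num [cFi, FiN.nr]

end Cfsg.Agent.H956.EPX
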