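import Cfsg.Agent.H686.EX.Kill
import Cfsg.Agent.H498.SporOut

/-!
# S5745: the generic row for a sporadic socle `T` (helper956)

`spor_row` : class bounds `c r` in `G` and numbers `Nr r` of elements of order `r` in `T`, for the odd primes `r` of
`|T|`, with `∑ Nr r ^ 2 / ((r - 1) c r) ≤ 1 / 2`: no extremely primitive action with stabiliser of socle `T`.
-/

set_option autoImplicit false

namespace Cfsg.Agent.H956.EPX

open Subgroup Cfsg Cfsg.Agent.H284 Cfsg.Agent.H209.EPX Cfsg.Agent.H742.EX Cfsg.Agent.H686.EX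

section gen

variable {T : Type} [Group T]

theorem card_out_le (hT : IsSporadicGroup T) : Nat.card (Out T) ≤ 2 :=
  Cfsg.Agent.H498.SporOut.index_le_two hT

end gen

variable {G : Type} [Group G] [Finite G] {H N : Subgroup G} {T : Type} [Group T] {e : N ≃* (Fin 1 → T)}

theorem finite_T (h : EPS H N e) : Finite T := by
  have h1 : Finite (Fin 1 → T) := Finite.of_equiv N e.toEquiv
  exact Finite.of_injective (fun t : T => (fun _ => t : Fin 1 → T)) fun a b hab => congrFun hab 0

omit [Finite G] in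
theorem relIndex_le (h : EPS H N e) (hT : IsSporadicGroup T) [Finite T] : N.relIndex H ≤ 2 ∧ Nat.card H = Nat.card T * N.relIndex H := by
  let e' : N ≃* T := e.trans (MulEquiv.funUnique (Fin 1) T)
  have h1 := relIndex_dvd_out h.toNIn h.cent e'
  have h2 : 0 < Nat.card (Out T) := by
    have : Finite (Out T) := by unfold Out; infer_instance
    exact Nat.card_pos
  refine ⟨(Nat.le_of_dvd h2 h1).trans (card_out_le hT), ?_⟩
  have h3 := (N.subgroupOf H).card_mul_index
  rw [Nat.card_congr (Subgroup.subgroupOfEquivOfLe h.le).toEquiv] at h3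
  rw [← h3, Nat.card_congr e'.toEquiv]
  rfl

/-- elements of odd prime order are in the socle -/
theorem card_el_le (h : EPS H N e) (hT : IsSporadicGroup T) {r : ℕ} (hr : r.Prime) (hr2 : r ≠ 2) :
    (el H r).card ≤ {x : T | orderOf x = r}.ncard := by
  classical
  have := finite_T h
  let e' : N ≃* T := e.trans (MulEquiv.funUnique (Fin 1) T)
  have h1 := (relIndex_le h hT).1
  have h0 : 0 < N.relIndex H := by
    have h2 := (relIndex_le h hT).2
    rcases Nat.eq_zero_or_pos (N.relIndex H) with h3 | h3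
    · rw [h3, mul_zero] at h2
      exact absurd h2 Nat.card_pos.ne'
    · exact h3
  have hco : ¬ r ∣ N.relIndex H := by
    intro hd
    have h2 := Nat.le_of_dvd h0 hd
    have h3 := hr.two_le
    omega
  rw [← Nat.card_coe_set_eq, ← Fintype.card_coe, ← Nat.card_eq_fintype_card]
  have hfin : Finite {x : T | orderOf x = r} := Subtype.finite
  refine Nat.card_le_card_of_injective (fun x : el H r => ⟨e' ⟨x.1, mem_of_pow h.toNIn hr hco (mem_el.1 x.2).1 (by
    have h := pow_orderOf_eq_one x.1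
    rwa [(mem_el.1 x.2).2] at h)⟩, ?_⟩) ?_
  · show orderOf (e' _) = r
    rw [MulEquiv.orderOf_eq, ← Subgroup.orderOf_coe]
    exact (mem_el.1 x.2).2
  · intro x y hxy
    have h1 := congrArg Subtype.val hxy
    have h2 := congrArg Subtype.val (e'.injective h1)
    exact Subtype.ext h2

/-- **the row** -/
theorem spor_row (h : EPS H N e) (hT : IsSporadicGroup T)
    (hM : ∀ g ∉ H, ∃ r ∈ (Nat.card H).primeFactors.erase 2, r ∣ Nat.card (H ⊓ cj g H : Subgroup G))
    {n : ℕ} (hn : Nat.card T = n) (π : Finset ℕ)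
    (hp : ∀ r ∈ π, r.Prime ∧ r ≠ 2) {a b : ℕ} (hfac : n ∣ 2 ^ a * (∏ r ∈ π, r) ^ b) (Nr c : ℕ → ℕ)
    (hN : ∀ r ∈ π, {x : T | orderOf x = r}.ncard ≤ Nr r) (hc : ∀ r ∈ π, ∀ x : G, orderOf x = r → c r ≤ cG x)
    (hc0 : ∀ r ∈ π, 0 < c r) {s : ℕ} (hs : s ∈ π) (hsn : s ∣ n) (h6 : 6 * n ≤ c s)
    (hS : ∑ r ∈ π, ((Nr r : ℚ) ^ 2 / (((r : ℚ) - 1) * c r)) ≤ 1 / 2) : False := by
  have hfin := finite_T h
  obtain ⟨hr1, hr2⟩ := relIndex_le h hT
  have hi : 3 ≤ H.index := by
    have := Fact.mk (hp s hs).1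
    obtain ⟨x, hx⟩ := exists_prime_orderOf_dvd_card' (G := T) s (by rw [hn]; exact hsn)
    let e' : N ≃* T := e.trans (MulEquiv.funUnique (Fin 1) T)
    have hx' : orderOf ((e'.symm x : N) : G) = s := by
      rw [Subgroup.orderOf_coe, MulEquiv.orderOf_eq, hx]
    have h1 : c s ≤ Nat.card G := (hc s hs _ hx').trans (by
      rw [cG]
      exact Nat.card_le_card_of_injective (fun y : {y : G // IsConj _ y} => y.1) Subtype.val_injective)
    have h4 : Nat.card H ≤ n * 2 := by
      rw [hr2, hn]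
      exact Nat.mul_le_mul_left _ hr1
    have h5 : Nat.card H * H.index = Nat.card G := H.card_mul_index
    by_contra hcon
    push Not at hcon
    have h7 : Nat.card H * H.index ≤ (n * 2) * 2 := Nat.mul_le_mul h4 (by omega)
    have h8 : 0 < n := by rw [← hn]; exact Nat.card_pos
    omega
  refine dead_of_pi hi π (fun r hr => (hp r hr).1) ?_ Nr c ?_ hc0 (fun r hr x _ hx => hc r hr x hx) hS
  · intro g hg
    obtain ⟨r, hr, hrd⟩ := hM g hg
    obtain ⟨hr3, hr4⟩ := Finset.mem_erase.1 hr
    have hrp := (Nat.mem_primeFactors.1 hr4).1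
    have hrH := (Nat.mem_primeFactors.1 hr4).2.1
    refine ⟨r, ?_, hrd⟩
    rw [hr2, hn] at hrH
    have h9 : r ∣ n := by
      rcases (hrp.dvd_mul).1 hrH with h10 | h10
      · exact h10
      · exfalso
        have h11 : 0 < N.relIndex H := by
          rcases Nat.eq_zero_or_pos (N.relIndex H) with h3 | h3
          · rw [h3, mul_zero] at hr2
            exact absurd hr2 Nat.card_pos.ne'
          · exact h3
        have h12 := Nat.le_of_dvd h11 h10
        have h13 := hrp.two_le
        omega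
    have h10 := h9.trans hfac
    rcases (hrp.dvd_mul).1 h10 with h11 | h11
    · exact absurd ((Nat.prime_dvd_prime_iff_eq hrp Nat.prime_two).1 (hrp.dvd_of_dvd_pow h11)) hr3
    · obtain ⟨s', hs', hd⟩ := (hrp.prime.dvd_finsetProd_iff _).1 (hrp.dvd_of_dvd_pow h11)
      rw [(Nat.prime_dvd_prime_iff_eq hrp (hp s' hs').1).1 hd]
      exact hs'
  · intro r hr
    exact (card_el_le h hT (hp r hr).1 (hp r hr).2).trans (hN r hr)

end Cfsg.Agent.H956.EPX
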