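import Cfsg.Agent.H956.EPX.Row
import Cfsg.Agent.NotCT.Orders

/-!
# S5745, the row `(E8(2), Th)` (helper956)

`th_row` : from the class bounds `2 ^ 113` (`r = 3`) and `2 ^ 119` (`r ≥ 5`) of `E8(2)`.
-/

set_option autoImplicit false

namespace Cfsg.Agent.H956.EPX

open Subgroup Cfsg Cfsg.Agent.H284 Cfsg.Agent.H209.EPX

/-- the class bounds -/
def cTh (r : ℕ) : ℕ := if r = 3 then 2 ^ 113 else 2 ^ 119

theorem th_row {G : Type} [Group G] [Finite G] {H N : Subgroup G} {T : Type} [Group T] {e : N ≃* (Fin 1 → T)}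
    (h : EPS H N e) (hT : Spor.IsoTh T)
    (hM : ∀ g ∉ H, ∃ r ∈ (Nat.card H).primeFactors.erase 2, r ∣ Nat.card (H ⊓ cj g H : Subgroup G))
    (h3 : ∀ x : G, orderOf x = 3 → 2 ^ 113 ≤ Cfsg.Agent.H742.EX.cG x)
    (h5 : ∀ r : ℕ, r.Prime → 5 ≤ r → ∀ x : G, orderOf x = r → 2 ^ 119 ≤ Cfsg.Agent.H742.EX.cG x) : False := by
  have hs : IsSporadicGroup T := by unfold IsSporadicGroup; tauto
  have hn : Nat.card T = 90745943887872000 := Cfsg.Agent.NotCT.Orders.th hT
  have hfin : Finite T := Nat.finite_of_card_ne_zero (by rw [hn]; norm_num)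
  have hp : ∀ r ∈ ({3, 5, 7, 13, 19, 31} : Finset ℕ), r.Prime ∧ r ≠ 2 := by
    intro r hr
    simp only [Finset.mem_insert, Finset.mem_singleton] at hr
    rcases hr with rfl | rfl | rfl | rfl | rfl | rfl <;> norm_num
  refine spor_row h hs hM hn {3, 5, 7, 13, 19, 31} hp (a := 15) (b := 10) ?_ (fun _ => 90745943887872000) cTh ?_ ?_ ?_
    (s := 3) (by simp) (by norm_num) (by norm_num [cTh]) ?_
  · decide +kernel
  · intro r _
    rw [← hn]
    exact Set.ncard_le_card _
  · intro r hr x hx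
    by_cases hr3 : r = 3
    · subst hr3
      rw [cTh, if_pos rfl]
      exact h3 x hx
    · rw [cTh, if_neg hr3]
      refine h5 r (hp r hr).1 ?_ x hx
      simp only [Finset.mem_insert, Finset.mem_singleton] at hr
      omega
  · intro r _
    rw [cTh]
    split_ifs <;> positivity
  · rw [Finset.sum_insert (by decide), Finset.sum_insert (by decide), Finset.sum_insert (by decide),
      Finset.sum_insert (by decide), Finset.sum_insert (by decide), Finset.sum_singleton]
    norm_num [cTh]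

end Cfsg.Agent.H956.EPX
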